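import Cfsg.Agent.Lib.SL2.Binary.Unip

/-!
# Characteristic two: the binary actions
-/

set_option autoImplicit false
set_option linter.unusedSectionVars false

namespace Cfsg.Agent.SL2.Binary

open Matrix Cfsg.Agent.Suzuki

variable {F : Type*} [Field F] [Fintype F]

local notation "G" => Matrix.SpecialLinearGroup (Fin 2) F
local notation "M2" => Matrix (Fin 2) (Fin 2) F
local notation "PS" => Matrix.ProjectiveSpecialLinearGroup (Fin 2) F
local notation "q" => Fintype.card F

theorem neg_eq_two (h2 : (2 : F) = 0) (a : F) : -a = a := by linear_combination -a * h2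

theorem pi_eq_two (h2 : (2 : F) = 0) {g h : G} (e : π g = π h) : g = h := by
  rcases π_eq_iff.1 e with e | e
  · exact e.symm
  · rw [e]
    apply ext4 <;> rw [Matrix.SpecialLinearGroup.coe_neg, Matrix.neg_apply, neg_eq_two h2]

theorem W0_sq (h2 : (2 : F) = 0) {y : PS} (hy : y ∈ (W0 : Subgroup PS)) : y * y = 1 := by
  obtain ⟨z, rfl⟩ := hy
  rw [← map_mul, uu_mul, show z + z = 0 by linear_combination z * h2, uu_zero, map_one]

theorem orderOf_uu_two (h2 : (2 : F) = 0) {z : F} (hz : z ≠ 0) : orderOf (π (uu z) : PS) = 2 :=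
  orderOf_two_iff.2 ⟨W0_sq h2 ⟨z, rfl⟩, fun e => hz (pi_uu_inj (e.trans (by rw [uu_zero, map_one])))⟩

theorem invol_conj_two (h2 : (2 : F) = 0) (a b : PS) (ha : orderOf a = 2) (hb : orderOf b = 2) :
    ∃ k, k * a * k⁻¹ = b := by
  have key : ∀ c : PS, orderOf c = 2 → ∃ s : G, π s = c ∧ ¬ Scal s ∧ tr s = 0 := by
    intro c hc
    obtain ⟨hcc, hc1⟩ := orderOf_two_iff.1 hc
    obtain ⟨s, rfl⟩ := π_surjective c
    have hs : ¬ Scal s := fun h => hc1 (π_eq_one.2 h)
    refine ⟨s, rfl, hs, ?_⟩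
    rw [← map_mul, ← map_one (π (F := F))] at hcc
    have hz := congrArg (fun m : G => (m : M2)) (pi_eq_two h2 hcc)
    simp only [Matrix.SpecialLinearGroup.coe_mul, mul_self, Matrix.SpecialLinearGroup.coe_one] at hz
    by_contra ht
    have key : ∀ k l : Fin 2, (s : M2) k l = 0 := fun k l => by
      have e := congrFun (congrFun hz k) l
      simp only [Matrix.sub_apply, Matrix.smul_apply, smul_eq_mul, sub_eq_iff_eq_add] at e
      refine (mul_eq_zero.1 ?_).resolve_left ht
      rw [e]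
      linear_combination ((1 : M2) k l) * h2
    have hd := det_eq s
    rw [key 0 0, key 0 1] at hd
    simp at hd
  obtain ⟨s, rfl, hs, hst⟩ := key a ha
  obtain ⟨r, rfl, hr, hrt⟩ := key b hb
  obtain ⟨P, hP⟩ := isConj_of_char_two h2 hs hr (hst.trans hrt.symm)
  exact ⟨π P, by rw [← π_conj, hP]⟩

/-- Characteristic two: an involution and no full unipotent group. -/
theorem not_binary_unip_two (h4 : 4 ≤ q) (h2 : (2 : F) = 0) {H : Subgroup PS} (hH : H ≠ ⊤) {b₀ : F}
    (hb₀ : b₀ ≠ 0) (hmem : π (uu b₀) ∈ H) (hW : ¬ (W0 : Subgroup PS) ≤ H) : ¬ BinaryAct H := by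
  haveI : Finite PS := Finite.of_surjective _ π_surjective
  have hle := capConj_uu_le h4 hH hb₀ hmem hW
  obtain ⟨b, hbW, hbK⟩ := SetLike.not_le_iff_exists.1 fun h => hW (h.trans (capConj_le_of_mem hmem))
  obtain ⟨z, rfl⟩ := hbW
  have hz : z ≠ 0 := fun e => hbK (by rw [e, uu_zero, map_one]; exact one_mem _)
  refine not_binary_inv (invol_conj_two h2) (orderOf_uu_two h2 hb₀) (orderOf_uu_two h2 hz)
    (W0_comm ⟨_, rfl⟩ ⟨_, rfl⟩) (fun e => hbK (e ▸ self_mem_capConj H _)) hmem hbK
    fun g hg hg1 hpow => absurd ?_ (hpow 1)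
  rw [pow_one]
  exact orderOf_two_iff.2 ⟨W0_sq h2 (hle hg), hg1⟩

/-- The action on non-zero vectors is binary. -/
theorem binary_W0 (h2 : (2 : F) = 0) : BinaryAct (W0 : Subgroup PS) := by
  intro n I J hn hp
  choose s hs using fun i => QuotientGroup.mk_surjective (I i)
  choose r hr using fun i => QuotientGroup.mk_surjective (J i)
  choose S hS using fun i => π_surjective (s i)
  choose R hR using fun i => π_surjective (r i)
  let vec : G → Fin 2 → F := fun g k => (g : M2) k 0
  let act : G → (Fin 2 → F) → Fin 2 → F := fun g v k => (g : M2) k 0 * v 0 + (g : M2) k 1 * v 1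
  have hiff : ∀ (g : G) (i : Fin n), π g • I i = J i ↔ act g (vec (S i)) = vec (R i) := by
    intro g i
    rw [← hs, ← hr, MulAction.Quotient.smul_coe, smul_eq_mul, QuotientGroup.eq, ← hS, ← hR,
      ← map_mul, ← map_inv, ← map_mul]
    have hact : act g (vec (S i)) = vec (g * S i) := by funext k; simp [act, vec, mul_entry]
    rw [hact]
    constructor
    · rintro ⟨z, hz⟩
      have e := pi_eq_two h2 hz
      rw [eq_inv_mul_iff_mul_eq] at e
      funext k
      rw [← e]
      simp [vec, mul_entry, uu_coe]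
    · intro e
      refine ⟨((g * S i)⁻¹ * R i : G).1 0 1, congrArg π ?_⟩
      have e0 : ((g * S i : G) : M2) 0 0 = (R i : M2) 0 0 := congrFun e 0
      have e1 : ((g * S i : G) : M2) 1 0 = (R i : M2) 1 0 := congrFun e 1
      generalize g * S i = T at e0 e1 ⊢
      have hd := det_eq T
      have hd' := det_eq (R i)
      apply ext4 <;> simp only [mul_entry, coe_inv'] <;> simp [uu_coe, tr]
      · linear_combination -hd + (T : M2) 1 1 * e0 - (T : M2) 0 1 * e1
      · linear_combination -(T : M2) 1 0 * e0 + (T : M2) 0 0 * e1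
      · linear_combination -hd' + (R i : M2) 0 1 * e1 - (R i : M2) 1 1 * e0
  let D : (Fin 2 → F) → (Fin 2 → F) → F := fun u v => u 0 * v 1 - u 1 * v 0
  have hD : ∀ (g : G) (u v : Fin 2 → F), D (act g u) (act g v) = D u v := fun g u v => by
    simp only [D, act]
    linear_combination (u 0 * v 1 - u 1 * v 0) * det_eq g
  have hp' : ∀ i j : Fin n, i ≠ j → ∃ g : G, act g (vec (S i)) = vec (R i) ∧ act g (vec (S j)) = vec (R j) := by
    intro i j hij
    obtain ⟨g, h1, h2'⟩ := hp i j hij
    obtain ⟨g, rfl⟩ := π_surjective g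
    exact ⟨g, (hiff g i).1 h1, (hiff g j).1 h2'⟩
  by_cases hjk : ∃ j k, D (vec (S j)) (vec (S k)) ≠ 0
  · obtain ⟨j, k, hd⟩ := hjk
    obtain ⟨g, hgj, hgk⟩ := hp' j k fun e => hd (by simp only [D, e]; ring)
    refine ⟨π g, fun i => (hiff g i).2 ?_⟩
    by_cases hij : j = i
    · exact hij ▸ hgj
    by_cases hik : k = i
    · exact hik ▸ hgk
    obtain ⟨g₁, h1j, h1i⟩ := hp' j i hij
    obtain ⟨g₂, h2k, h2i⟩ := hp' k i hik
    have e1 : D (vec (R j)) (act g (vec (S i))) = D (vec (R j)) (vec (R i)) := by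
      rw [← hgj, hD]
      conv_rhs => rw [hgj, ← h1j, ← h1i, hD]
    have e2 : D (vec (R k)) (act g (vec (S i))) = D (vec (R k)) (vec (R i)) := by
      rw [← hgk, hD]
      conv_rhs => rw [hgk, ← h2k, ← h2i, hD]
    have hd' : D (vec (R j)) (vec (R k)) ≠ 0 := by rw [← hgj, ← hgk, hD]; exact hd
    funext m
    refine mul_left_cancel₀ hd' ?_
    simp only [D] at e1 e2 ⊢
    fin_cases m
    · show _ * act g (vec (S i)) 0 = _ * vec (R i) 0
      linear_combination (vec (R k) 0) * e1 - (vec (R j) 0) * e2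
    · show _ * act g (vec (S i)) 1 = _ * vec (R i) 1
      linear_combination (vec (R k) 1) * e1 - (vec (R j) 1) * e2
  · push Not at hjk
    let o : Fin n := ⟨0, by omega⟩
    obtain ⟨g, hgo, -⟩ := hp' o ⟨1, by omega⟩ (by simp [o])
    refine ⟨π g, fun i => (hiff g i).2 ?_⟩
    by_cases hio : o = i
    · exact hio ▸ hgo
    obtain ⟨g₁, h1o, h1i⟩ := hp' o i hio
    rw [← h1i]
    have he := hgo.trans h1o.symm
    have hdep := hjk o i
    have hne : vec (S o) 0 ≠ 0 ∨ vec (S o) 1 ≠ 0 := by
      by_contra hcon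
      push Not at hcon
      have := det_eq (S o)
      simp only [vec] at hcon
      rw [hcon.1, hcon.2] at this
      simp at this
    simp only [D] at hdep
    funext m
    have hem := congrFun he m
    simp only [act] at hem ⊢
    rcases hne with h | h <;> refine mul_left_cancel₀ h ?_
    · linear_combination (vec (S i) 0) * hem + ((g : M2) m 1 - (g₁ : M2) m 1) * hdep
    · linear_combination (vec (S i) 1) * hem - ((g : M2) m 0 - (g₁ : M2) m 0) * hdep

/-- A group of order three is binary unless three of its conjugates meet in a product. -/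
theorem binary_card_three {P : Type*} [Group P] [Finite P] {H : Subgroup P} (h3 : Nat.card H = 3)
    (hkey : ∀ x y : P, x ≠ 1 → y ≠ 1 → x * y ≠ 1 → (∃ g, g⁻¹ * x * g ∈ H) → (∃ g, g⁻¹ * y * g ∈ H) →
      (∃ g, g⁻¹ * (x * y) * g ∈ H) → x = y) : BinaryAct H := by
  classical
  haveI : Fact (Nat.Prime 3) := ⟨Nat.prime_three⟩
  intro n I J hn hp
  have hst : ∀ i, Nat.card (MulAction.stabilizer P (I i)) = 3 := by
    intro i
    obtain ⟨g, hg⟩ := QuotientGroup.mk_surjective (I i)
    rw [← hg, ← h3]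
    exact Nat.card_congr ((MulAut.conj g⁻¹).toEquiv.subtypeEquiv fun y => by
      rw [MulAction.mem_stabilizer_iff, fix_coset_iff]; simp)
  have hex : ∀ i, ∀ y ∈ MulAction.stabilizer P (I i), ∃ g, g⁻¹ * y * g ∈ H := by
    intro i y hy
    obtain ⟨g, hg⟩ := QuotientGroup.mk_surjective (I i)
    exact ⟨g, (fix_coset_iff H y g).1 (hg ▸ hy)⟩
  have hti : ∀ i j, ∀ y, y ≠ 1 → y ∈ MulAction.stabilizer P (I i) → y ∈ MulAction.stabilizer P (I j) →
      MulAction.stabilizer P (I i) = MulAction.stabilizer P (I j) := by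
    intro i j y hy hi hj
    have h : ∀ k, y ∈ MulAction.stabilizer P (I k) → Subgroup.zpowers y = MulAction.stabilizer P (I k) := by
      intro k hk
      refine Subgroup.eq_of_le_of_card_ge (Subgroup.zpowers_le.2 hk) ?_
      rw [hst, Nat.card_zpowers]
      have hd := Subgroup.orderOf_dvd_natCard _ hk
      rw [hst] at hd
      rcases (Nat.dvd_prime Nat.prime_three).1 hd with e | e
      · exact absurd (orderOf_eq_one_iff.1 e) hy
      · omega
    rw [← h i hi, h j hj]
  let o : Fin n := ⟨0, by omega⟩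
  obtain ⟨g₀, hg₀, -⟩ := hp o ⟨1, by omega⟩ (by simp [o])
  have ha : ∀ i, ∃ a ∈ MulAction.stabilizer P (I o), a • I i = g₀⁻¹ • J i := by
    intro i
    by_cases hio : o = i
    · exact ⟨1, one_mem _, by rw [one_smul, ← hio, ← hg₀, inv_smul_smul]⟩
    obtain ⟨g, h1, h2⟩ := hp o i hio
    refine ⟨g₀⁻¹ * g, ?_, by rw [mul_smul, h2]⟩
    rw [MulAction.mem_stabilizer_iff, mul_smul, h1, ← hg₀, inv_smul_smul]
  choose a haS haI using ha
  by_cases hS : ∃ j, MulAction.stabilizer P (I j) ≠ MulAction.stabilizer P (I o)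
  · obtain ⟨j, hj⟩ := hS
    refine ⟨g₀ * a j, fun i => ?_⟩
    rw [mul_smul, ← eq_inv_smul_iff, ← haI i]
    by_cases hi : MulAction.stabilizer P (I i) = MulAction.stabilizer P (I o)
    · rw [MulAction.mem_stabilizer_iff.1 (hi.symm ▸ haS j : a j ∈ MulAction.stabilizer P (I i)),
        MulAction.mem_stabilizer_iff.1 (hi.symm ▸ haS i : a i ∈ MulAction.stabilizer P (I i))]
    by_cases hij : i = j
    · rw [hij]
    suffices a i = a j by rw [this]
    by_contra hne
    obtain ⟨g, h1, h2⟩ := hp i j hij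
    set y := (a i)⁻¹ * (g₀⁻¹ * g)
    set x := (a j)⁻¹ * (g₀⁻¹ * g)
    have hy : y ∈ MulAction.stabilizer P (I i) := by
      rw [MulAction.mem_stabilizer_iff, mul_smul, mul_smul, h1, ← haI i, inv_smul_smul]
    have hx : x ∈ MulAction.stabilizer P (I j) := by
      rw [MulAction.mem_stabilizer_iff, mul_smul, mul_smul, h2, ← haI j, inv_smul_smul]
    have hh : y * x⁻¹ = (a i)⁻¹ * a j := by simp [x, y, mul_assoc]
    have hh1 : y * x⁻¹ ≠ 1 := by rw [hh]; exact fun e => hne (inv_mul_eq_one.1 e)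
    have hhS : y * x⁻¹ ∈ MulAction.stabilizer P (I o) := hh ▸ mul_mem (inv_mem (haS i)) (haS j)
    by_cases hy1 : y = 1
    · exact hj (hti j o _ hh1 (by rw [hy1, one_mul]; exact inv_mem hx) hhS)
    by_cases hx1 : x = 1
    · exact hi (hti i o _ hh1 (by rw [hx1, inv_one, mul_one]; exact hy) hhS)
    have e := hkey y x⁻¹ hy1 (inv_ne_one.2 hx1) hh1 (hex i y hy) (hex j _ (inv_mem hx)) (hex o _ hhS)
    exact hi (hti i o _ hh1 (by rw [← e]; exact mul_mem hy hy) hhS)
  · push Not at hS
    refine ⟨g₀, fun i => ?_⟩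
    have h1 : a i • I i = I i := MulAction.mem_stabilizer_iff.1 ((hS i).symm ▸ haS i)
    rw [← eq_inv_smul_iff, ← haI i, h1]

/-- Trace one elements with trace one product. -/
theorem eq_of_tr_one (h2 : (2 : F) = 0) (hw : ∀ w : F, w ^ 2 + w + 1 ≠ 0) {x y : G} (hx : tr x = 1)
    (hy : tr y = 1) (hxy : tr (x * y) = 1) : x = y := by
  have h4 : tr x ^ 2 ≠ 4 ∨ ((2 : F) = 0 ∧ ¬ Scal x) := Or.inl (by
    rw [hx, show (4 : F) = 2 * 2 by norm_num, h2]; simp)
  obtain ⟨P, hP⟩ := exists_conj_comp h4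
  rw [hx] at hP
  set y' := P⁻¹ * y * P with hy'
  have t1 : tr y' = 1 := by rw [hy', ← hy]; simpa using tr_conj y P⁻¹
  have t2 : tr (comp 1 * y') = 1 := by
    have h := tr_conj (comp 1 * y') P
    rw [show P * (comp 1 * y') * P⁻¹ = x * y by rw [hy', ← hP]; group] at h
    rw [← h, hxy]
  have hd := det_eq y'
  have hu : y' = comp 1 := by
    rw [tr] at t1 t2
    simp only [mul_entry] at t2
    simp [comp] at t2
    set al := (y' : M2) 0 0
    set be := (y' : M2) 0 1
    set ga := (y' : M2) 1 0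
    set de := (y' : M2) 1 1
    have hq : (be + 1) ^ 2 + (be + 1) * (de + 1) + (de + 1) ^ 2 = 0 := by
      linear_combination -hd + de * t1 + be * t2 + (2 * be + 2 * de + 1) * h2
    have hd1 : de = 1 := by
      by_contra hde
      have hde' : de + 1 ≠ 0 := fun e => hde (by linear_combination e - h2)
      refine hw ((be + 1) / (de + 1)) ?_
      field_simp
      linear_combination hq
    rw [hd1] at hq
    have hb : be = 1 := by
      have : (be + 1) ^ 2 = 0 := by linear_combination hq - (be + 1) * h2 - 2 * h2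
      linear_combination (pow_eq_zero_iff two_ne_zero).1 this - h2
    apply ext4 <;> simp [comp]
    · show al = 0
      linear_combination t1 - hd1
    · show be = -1
      linear_combination hb + h2
    · show ga = 1
      linear_combination -t2 + hb + hd1
    · exact hd1
  rw [← hP, ← hu, hy']; group

end Cfsg.Agent.SL2.Binary
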