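import Cfsg.Agent.Lib.SL2.Binary.Exceptional
import Cfsg.Agent.Lib.SL2.DicksonTorus
import Cfsg.Agent.Lib.SL2.DicksonSmall
import Cfsg.Agent.Lib.SL2.PElementNormal
import Cfsg.Agent.Lib.SL2.DicksonKleinCount

/-!
# The binary coset actions of `PSL(2, q)`
-/

set_option autoImplicit false
set_option linter.unusedSectionVars false

namespace Cfsg.Agent.SL2.Binary

open Matrix Cfsg.Agent.Suzuki

variable {F : Type*} [Field F] [Fintype F]

local notation "G" => Matrix.SpecialLinearGroup (Fin 2) F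
local notation "M2" => Matrix (Fin 2) (Fin 2) F
local notation "PS" => Matrix.ProjectiveSpecialLinearGroup (Fin 2) F
local notation "q" => Fintype.card F

theorem mem_map_conj {P : Type*} [Group P] (H : Subgroup P) (k x : P) :
    x ∈ H ↔ MulAut.conj k x ∈ H.map (MulAut.conj k).toMonoidHom :=
  (Subgroup.mem_map_iff_mem (MulAut.conj k).injective).symm

theorem binary_map_conj {P : Type*} [Group P] {H : Subgroup P} (k : P) :
    BinaryAct (H.map (MulAut.conj k).toMonoidHom) ↔ BinaryAct H := by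
  refine ⟨fun h => binary_of_equiv (MulAut.conj k).symm _ H (fun g => ?_) h,
    fun h => binary_of_equiv (MulAut.conj k) H _ (mem_map_conj H k) h⟩
  rw [mem_map_conj H k ((MulAut.conj k).symm g), MulEquiv.apply_symm_apply]

theorem map_conj_ne_top {P : Type*} [Group P] {H : Subgroup P} (hH : H ≠ ⊤) (k : P) :
    H.map (MulAut.conj k).toMonoidHom ≠ ⊤ :=
  fun e => hH (eq_top_iff.2 fun g _ => (mem_map_conj H k g).2 (e ▸ Subgroup.mem_top _))

/-- A cyclic stabiliser of order prime to the characteristic. -/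
theorem not_binary_cyclic (p : ℕ) [Fact p.Prime] [CharP F p] {H : Subgroup PS} [IsCyclic H] (hbot : H ≠ ⊥)
    (hpH : ¬ p ∣ Nat.card H) (hex : (2 : F) = 0 → Nat.card H = 3 → ∃ w : F, w ^ 2 + w + 1 = 0) :
    ¬ BinaryAct H := by
  haveI : Finite PS := Finite.of_surjective _ π_surjective
  obtain ⟨⟨x, hxH⟩, hgen⟩ := IsCyclic.exists_ofOrder_eq_natCard (α := H)
  rw [Subgroup.orderOf_mk] at hgen
  obtain ⟨s, rfl⟩ := π_surjective x
  have hne : π s ≠ 1 := fun e => hbot (Subgroup.eq_bot_of_card_eq H (by rw [← hgen, e, orderOf_one]))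
  have hs : ¬ Scal s := fun h => hne (π_eq_one.2 h)
  have hz : Subgroup.zpowers (π s) = H :=
    Subgroup.eq_of_le_of_card_ge (Subgroup.zpowers_le.2 hxH) (by rw [Nat.card_zpowers, hgen])
  have ht : tr s ^ 2 ≠ 4 := fun e => hpH (by
    have hd := orderOf_dvd_of_pow_eq_one (not_semisimple_pow (p := p) e)
    rcases (Nat.dvd_prime (Fact.out : p.Prime)).1 hd with h | h
    · exact absurd (orderOf_eq_one_iff.1 h) hne
    · rw [← hgen, h])
  have hgood : Good H s := by
    refine ⟨⟨1, by simpa using hxH⟩, fun y hy => ?_⟩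
    have hyH := capConj_le_of_mem hxH hy
    rw [← hz] at hyH
    exact (Subgroup.zpowers_le.2 (pi_mem_torus.2 (self_mem_cent s))) hyH
  refine not_binary_of_good hgood ht fun h2 => ?_
  by_cases h1 : tr s = 1
  · refine Or.inr (hex h2 ?_)
    rw [← hgen]
    haveI : Fact (Nat.Prime 3) := ⟨Nat.prime_three⟩
    refine orderOf_eq_prime ?_ hne
    rw [← map_pow, pow_three_of_trace_one h1, pi_neg_one]
  · exact Or.inl h1

/-- The facts used about an involution with small centraliser in `H`. -/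
theorem not_binary_even (p : ℕ) [Fact p.Prime] [CharP F p] (h7 : 7 ≤ q) (h2 : (2 : F) ≠ 0)
    {H : Subgroup PS} (hH : H ≠ ⊤) (hpH : ¬ p ∣ Nat.card H) {t : PS} (htH : t ∈ H) (ht : orderOf t = 2)
    (hC : ∀ y ∈ H, y * t = t * y → y * y = 1) : ¬ BinaryAct H := by
  haveI : Finite PS := Finite.of_surjective _ π_surjective
  obtain ⟨htt, ht1⟩ := orderOf_two_iff.1 ht
  obtain ⟨g, rfl, hg⟩ := lift_involution h2 htt ht1
  have htr : tr g ^ 2 ≠ 4 := tr_sq_of_tr_zero h2 (tr_zero_of_sq h2 hg)
  obtain ⟨m, hp, hqp⟩ := FiniteField.card F p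
  have hp2 : p ≠ 2 := fun e => h2 (by subst e; exact CharTwo.two_eq_zero)
  have hodd : Odd q := hqp ▸ (hp.odd_of_ne_two hp2).pow
  obtain ⟨j, hj⟩ := hodd
  have hgcd : Nat.gcd 2 (q - 1) = 2 := Nat.gcd_eq_left ⟨j, by omega⟩
  have h3 : 3 ≤ Nat.card (torus g) := by
    rcases card_torus_cases htr with ⟨-, h⟩ | ⟨-, h⟩ <;> rw [h, hgcd] <;> omega
  obtain ⟨d, w, hd, hz, hw, hwt, hw2, hinv⟩ := exists_gen_invert htr
  have hcomm : ∀ y ∈ NT g, y * π g = π g * y := fun y hy => by
    rw [← centralizer_involution h2 hg, Subgroup.mem_centralizer_singleton_iff] at hy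
    exact hy
  have hdN : d ∈ NT g := Subgroup.le_normalizer (hz ▸ Subgroup.mem_zpowers d)
  have hwd : w * d * (w * d) = 1 := by
    have : w * d * w = d⁻¹ := by
      rw [← hinv, inv_eq_of_mul_eq_one_right hw2]
    rw [← mul_assoc, this, inv_mul_cancel]
  have hwdT : w * d ∉ torus g := fun h => hwt (by
    simpa using mul_mem h (inv_mem (hz ▸ Subgroup.mem_zpowers d : d ∈ torus g)))
  obtain ⟨b, hbN, hb2, hbT, hbK⟩ : ∃ b ∈ NT g, b * b = 1 ∧ b ∉ torus g ∧ b ∉ capConj H (π g) := by
    by_contra hcon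
    push Not at hcon
    have hwK := hcon w hw hw2 hwt
    have hwdK := hcon (w * d) (mul_mem hw hdN) hwd hwdT
    have hdH : d ∈ H := capConj_le_of_mem htH (by simpa using mul_mem (inv_mem hwK) hwdK)
    have := hC d hdH (hcomm d hdN)
    have h2 := Nat.le_of_dvd two_pos (orderOf_dvd_of_pow_eq_one (by rw [pow_two]; exact this : d ^ 2 = 1))
    omega
  have htT : π g ∈ torus g := pi_mem_torus.2 (self_mem_cent g)
  have hb : orderOf b = 2 := orderOf_two_iff.2 ⟨hb2, fun e => hbT (e ▸ one_mem _)⟩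
  refine not_binary_inv (fun a c ha hc => isConj_iff.1 (isConj_involutions h2 ha hc)) ht hb
    (hcomm b hbN).symm (fun e => hbT (e ▸ htT)) htH hbK fun z hzK hz1 hpow k hnorm => ?_
  by_cases h11 : q = 7 ∨ q = 9
  · by_contra hzL
    set L := capConj H (k * π g * k⁻¹) with hL
    set N := Subgroup.normalizer (L : Set PS) with hNdef
    have hzN : z ∈ N := by
      have hmap : L.map (MulAut.conj z).toMonoidHom = L :=
        Subgroup.eq_of_le_of_card_ge (by rintro _ ⟨y, hy, rfl⟩; exact hnorm y hy) (le_of_eq (by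
          rw [Nat.card_congr ((L.equivMapOfInjective (MulAut.conj z).toMonoidHom
            (MulAut.conj z).injective).toEquiv)]))
      rw [hNdef, Subgroup.mem_normalizer_iff]
      intro y
      refine ⟨hnorm y, fun hy => ?_⟩
      rw [← hmap] at hy
      obtain ⟨u, hu, e⟩ := hy
      have : u = y := (MulAut.conj z).injective e
      exact this ▸ hu
    have hdvd : orderOf z ∣ Nat.card L := by
      rw [hL, card_capConj_conj]
      exact Subgroup.orderOf_dvd_natCard _ hzK
    haveI : (L.subgroupOf N).Normal := Subgroup.normal_in_normalizer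
    have hcard : Nat.card (N ⧸ L.subgroupOf N) * Nat.card L ∣ Nat.card PS := by
      rw [← Nat.card_congr (Subgroup.subgroupOfEquivOfLe (Subgroup.le_normalizer (H := L))).toEquiv,
        ← Subgroup.card_eq_card_quotient_mul_card_subgroup]
      exact Subgroup.card_subgroup_dvd_card N
    have hi : orderOf (QuotientGroup.mk' (L.subgroupOf N) ⟨z, hzN⟩) ∣ orderOf z := by
      rw [← Subgroup.orderOf_mk z hzN]; exact orderOf_map_dvd _ _
    have hone : orderOf (QuotientGroup.mk' (L.subgroupOf N) ⟨z, hzN⟩) ≠ 1 := fun e => by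
      have h := orderOf_eq_one_iff.1 e
      rw [QuotientGroup.mk'_apply, QuotientGroup.eq_one_iff, Subgroup.mem_subgroupOf] at h
      exact hzL h
    have hodd : ¬ 2 ∣ orderOf z := fun h => hpow _ (orderOf_pow_orderOf_div (orderOf_pos z).ne' h)
    have hp' : ¬ p ∣ orderOf z := fun h =>
      hpH (h.trans (Subgroup.orderOf_dvd_natCard _ (capConj_le_of_mem htH hzK)))
    have hd1 : orderOf z ∣ Nat.card PS := orderOf_dvd_natCard z
    have hcp := card_psl_odd (F := F) ⟨j, hj⟩
    have hpq : p ∣ q := hqp ▸ dvd_pow_self p m.ne_zero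
    have hsq : orderOf (QuotientGroup.mk' (L.subgroupOf N) ⟨z, hzN⟩) * orderOf z ∣ Nat.card PS :=
      (Nat.mul_dvd_mul (orderOf_dvd_natCard _) hdvd).trans hcard
    have hzne : orderOf z ≠ 1 := fun e => hz1 (orderOf_eq_one_iff.1 e)
    generalize orderOf (QuotientGroup.mk' (L.subgroupOf N) ⟨z, hzN⟩) = i at *
    generalize orderOf z = n at *
    rcases h11 with e | e <;> rw [e] at hcp hpq
    · have hp7 : p = 7 := ((Nat.dvd_prime (by norm_num)).1 hpq).resolve_left hp.one_lt.ne'
      subst hp7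
      rw [show Nat.card PS = 168 by omega] at hd1 hsq
      have hn : n ∈ Nat.divisors 168 := Nat.mem_divisors.2 ⟨hd1, by norm_num⟩
      have hi' : i ∈ Nat.divisors n := Nat.mem_divisors.2 ⟨hi, fun e => by simp [e] at hodd⟩
      have key : ∀ n ∈ Nat.divisors 168, ∀ i ∈ n.divisors,
          i ≠ 1 → ¬ 2 ∣ n → ¬ 7 ∣ n → i * n ∣ 168 → False := by decide +kernel
      exact key n hn i hi' hone hodd hp' hsq
    · have hp3 : p = 3 := (Nat.prime_dvd_prime_iff_eq hp (by norm_num : Nat.Prime 3)).1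
        (hp.dvd_of_dvd_pow (show p ∣ 3 ^ 2 by norm_num; exact hpq))
      subst hp3
      rw [show Nat.card PS = 360 by omega] at hd1 hsq
      have hn : n ∈ Nat.divisors 360 := Nat.mem_divisors.2 ⟨hd1, by norm_num⟩
      have hi' : i ∈ Nat.divisors n := Nat.mem_divisors.2 ⟨hi, fun e => by simp [e] at hodd⟩
      have key : ∀ n ∈ Nat.divisors 360, ∀ i ∈ n.divisors,
          i ≠ 1 → ¬ 2 ∣ n → ¬ 3 ∣ n → i * n ∣ 360 → False := by decide +kernel
      exact key n hn i hi' hone hodd hp' hsq
  · exfalso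
    push Not at h11
    have hcoat : IsCoatom (NT g) := isCoatom_NT htr h3 h11.1 h11.2 (fun e hc => by
      have h : orderOf (π g) ∣ Nat.card (torus g) := Subgroup.orderOf_dvd_natCard _ htT
      rw [ht, hc] at h
      omega) (by omega)
    set N := Subgroup.normalizer (capConj H (π g) : Set PS) with hNdef
    have hle : NT g ≤ N := fun y hy => by
      rw [hNdef, Subgroup.mem_normalizer_iff]
      refine fun u => ⟨conj_mem_capConj (hcomm y hy), fun hu => ?_⟩
      have h := conj_mem_capConj (hcomm y⁻¹ (inv_mem hy)) hu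
      simpa [mul_assoc] using h
    have hNtop : N ≠ ⊤ := fun e => by
      haveI := isSimple_psl (F := F) (by omega)
      rcases (Subgroup.normalizer_eq_top_iff.1 e).eq_bot_or_eq_top with h | h
      · exact ht1 (Subgroup.mem_bot.1 (h ▸ self_mem_capConj H (π g)))
      · exact hH (top_le_iff.1 (h ▸ capConj_le_of_mem htH))
    have hNe : N = NT g := (hcoat.le_iff.1 hle).resolve_left hNtop
    have hzN : z ∈ NT g := hNe ▸ Subgroup.le_normalizer hzK
    have := hC z (capConj_le_of_mem htH hzK) (hcomm z hzN)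
    exact hpow 1 (by rw [pow_one]; exact orderOf_two_iff.2 ⟨this, hz1⟩)

theorem dihedral_fact (k : ℕ) : ∃ t : DihedralGroup k, t * t = 1 ∧ t ≠ 1 ∧ ∀ y, y * t = t * y → y * y = 1 := by
  refine ⟨DihedralGroup.sr 0, by simp, (fun e => nomatch e), fun y => ?_⟩
  rcases y with i | i
  · intro h
    simp [DihedralGroup.r_mul_sr, DihedralGroup.sr_mul_r] at h
    rw [DihedralGroup.r_mul_r, show i + i = 0 by linear_combination -h, DihedralGroup.r_zero]
  · intro _; simp

theorem alt_four_fact : ∃ t : alternatingGroup (Fin 4), t * t = 1 ∧ t ≠ 1 ∧ ∀ y, y * t = t * y → y * y = 1 := by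
  decide +kernel

theorem perm_four_fact : ∃ t : Equiv.Perm (Fin 4), t * t = 1 ∧ t ≠ 1 ∧ ∀ y, y * t = t * y → y * y = 1 := by
  decide +kernel

theorem alt_five_fact : ∃ t : alternatingGroup (Fin 5), t * t = 1 ∧ t ≠ 1 ∧ ∀ y, y * t = t * y → y * y = 1 := by
  decide +kernel

theorem of_fact {P A : Type*} [Group P] [Group A] {H : Subgroup P} (e : H ≃* A)
    (h : ∃ t : A, t * t = 1 ∧ t ≠ 1 ∧ ∀ y, y * t = t * y → y * y = 1) :
    ∃ t ∈ H, orderOf t = 2 ∧ ∀ y ∈ H, y * t = t * y → y * y = 1 := by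
  obtain ⟨t, h1, h2, h3⟩ := h
  refine ⟨e.symm t, (e.symm t).2, orderOf_two_iff.2 ⟨?_, ?_⟩, fun y hy hyt => ?_⟩
  · rw [← Subgroup.coe_mul, ← map_mul, h1, map_one, Subgroup.coe_one]
  · intro e'
    exact h2 (e.symm.injective ((Subtype.ext e').trans (map_one e.symm).symm))
  · have : (⟨y, hy⟩ : H) * e.symm t = e.symm t * ⟨y, hy⟩ := Subtype.ext hyt
    have h4 := congrArg e this
    rw [map_mul, map_mul, MulEquiv.apply_symm_apply] at h4
    have h5 := h3 _ h4
    rw [← map_mul] at h5
    exact congrArg Subtype.val (e.injective (h5.trans (map_one e).symm))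

theorem orderOf_uu_prime (p : ℕ) [Fact p.Prime] {K : Type*} [Field K] [Fintype K] [CharP K p] :
    orderOf (π (uu (1 : K))) = p :=
  orderOf_eq_prime (B0_exponent ⟨1, rfl⟩) fun e => one_ne_zero (pi_uu_inj (e.trans (by rw [uu_zero, map_one])))

/-- Subgroups of order prime to the characteristic. -/
theorem pprime_cases (p : ℕ) [Fact p.Prime] [CharP F p] {H : Subgroup PS} (hpH : ¬ p ∣ Nat.card H) :
    IsCyclic H ∨ (p ≠ 2 ∧ ∃ t ∈ H, orderOf t = 2 ∧ ∀ y ∈ H, y * t = t * y → y * y = 1) := by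
  haveI : Finite PS := Finite.of_surjective _ π_surjective
  rcases dickson p H with ⟨r, -, -, h⟩ | ⟨r, -, -, k, -, -, ⟨e⟩⟩ | ⟨g, hg⟩ | ⟨h, ⟨e⟩⟩ | ⟨h, ⟨e⟩⟩ |
    ⟨h, -, ⟨e⟩⟩ | ⟨K, γ, -, hK⟩
  · exact Or.inl h
  · refine Or.inr ⟨fun hp => hpH ?_, of_fact e (dihedral_fact k)⟩
    rw [Nat.card_congr e.toEquiv, DihedralGroup.nat_card, hp]
    exact dvd_mul_right 2 k
  · left
    obtain ⟨ψ, hψ⟩ := exists_borelHom (F := F)
    let f : H →* (B0 : Subgroup PS) :=
      ((MulAut.conj g).toMonoidHom.comp H.subtype).codRestrict _ fun x => hg x x.2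
    refine isCyclic_of_subgroup_isDomain ((Units.coeHom F).comp (ψ.comp f)) ?_
    refine Units.val_injective.comp ((injective_iff_map_eq_one (ψ.comp f)).2 fun x hx => ?_)
    have hW : g * (x : PS) * g⁻¹ ∈ (W0 : Subgroup PS) := hψ (f x) hx
    have hp : (x : PS) ^ p = 1 := by
      have := B0_exponent (p := p) hW
      rwa [conj_pow, conj_eq_one_iff] at this
    refine Subtype.ext ?_
    by_contra hne
    exact hpH (orderOf_eq_prime hp hne ▸ Subgroup.orderOf_dvd_natCard _ x.2)
  · exact Or.inr ⟨h, of_fact e alt_four_fact⟩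
  · exact Or.inr ⟨h, of_fact e perm_four_fact⟩
  · exact Or.inr ⟨h, of_fact e alt_five_fact⟩
  · exfalso
    haveI : Fintype K := Fintype.ofFinite K
    haveI : CharP K p := (K.subtype).charP Subtype.val_injective p
    rcases hK with ⟨⟨e⟩, -⟩ | ⟨⟨e⟩, -⟩
    · refine hpH ?_
      rw [Nat.card_congr e.toEquiv, ← orderOf_uu_prime p (K := K)]
      exact orderOf_dvd_natCard _
    · refine hpH ?_
      rw [Nat.card_congr e.toEquiv, ← orderOf_uu_prime p (K := K),
        ← orderOf_injective _ Matrix.ProjectiveSpecialLinearGroup.toPGL_injective]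
      exact orderOf_dvd_natCard _

theorem exists_root_of_three_dvd (h : 3 ∣ q - 1) : ∃ w : F, w ^ 2 + w + 1 = 0 := by
  haveI : Fact (Nat.Prime 3) := ⟨Nat.prime_three⟩
  classical
  obtain ⟨u, hu⟩ := exists_prime_orderOf_dvd_card 3 (show 3 ∣ Fintype.card Fˣ by rwa [Fintype.card_units])
  refine ⟨u, ?_⟩
  have h3 : (u : F) ^ 3 = 1 := by rw [← Units.val_pow_eq_pow_val, ← hu, pow_orderOf_eq_one]; rfl
  have h1 : (u : F) ≠ 1 := fun e => by
    rw [show u = 1 from Units.ext e, orderOf_one] at hu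
    norm_num at hu
  exact (mul_eq_zero.1 (show ((u : F) - 1) * ((u : F) ^ 2 + (u : F) + 1) = 0 by linear_combination h3)).resolve_left
    (sub_ne_zero.2 h1)

theorem three_dvd_iff_even {a : ℕ} : 3 ∣ 2 ^ a - 1 ↔ Even a := by
  have h : 2 ^ a % 3 = if Even a then 1 else 2 := by
    induction a with
    | zero => simp
    | succ a ih =>
      rw [pow_succ, Nat.mul_mod, ih]
      by_cases ha : Even a <;> simp [ha, Nat.even_add_one]
  have := Nat.one_le_two_pow (n := a)
  by_cases ha : Even a <;> simp [ha] at h ⊢ <;> omega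

theorem no_root_of_odd {a : ℕ} (ha : Odd a) (hq : q = 2 ^ a) (w : F) : w ^ 2 + w + 1 ≠ 0 := by
  classical
  intro hw
  haveI : Fact (Nat.Prime 3) := ⟨Nat.prime_three⟩
  have hp : CharP F 2 := charP_of_card_eq_prime_pow hq
  have h3 : w ^ 3 = 1 := by linear_combination (w - 1) * hw
  have hw0 : w ≠ 0 := fun e => by simp [e] at hw
  have hu : orderOf (Units.mk0 w hw0) = 3 := orderOf_eq_prime (Units.ext (by simpa using h3)) fun e => by
    have e' : w = 1 := by simpa using congrArg Units.val e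
    subst e'
    exact one_ne_zero (show (1 : F) = 0 by linear_combination hw - (CharTwo.two_eq_zero (R := F)))
  have := orderOf_dvd_card (x := Units.mk0 w hw0)
  rw [hu, Fintype.card_units, hq] at this
  exact (Nat.not_even_iff_odd.2 ha) (three_dvd_iff_even.1 this)

/-- The binary coset actions. -/
theorem binary_iff (h4 : 4 ≤ q) (h5 : q ≠ 5) (H : Subgroup PS) (hH : H ≠ ⊤) :
    BinaryAct H ↔ (H = ⊥ ∨ ((∃ a : ℕ, q = 2 ^ a) ∧ ∃ P : Sylow 2 PS, H = P) ∨
      ((∃ a : ℕ, Odd a ∧ q = 2 ^ a) ∧ Nat.card H = 3)) := by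
  haveI : Finite PS := Finite.of_surjective _ π_surjective
  obtain ⟨p, hchar⟩ := CharP.exists F
  obtain ⟨m, hp, hqp⟩ := FiniteField.card F p
  haveI := Fact.mk hp
  haveI : Fact (Nat.Prime 2) := ⟨Nat.prime_two⟩
  obtain ⟨V, hV, -⟩ := exists_sylow_W0 (F := F) p
  constructor
  · intro hb
    by_contra hcon
    push Not at hcon
    obtain ⟨hbot, hsyl, hthree⟩ := hcon
    by_cases hpH : p ∣ Nat.card H
    · obtain ⟨x, hx⟩ := exists_prime_orderOf_dvd_card' p hpH
      have hx1 : (x : PS) ≠ 1 := fun e => by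
        rw [show x = 1 from Subtype.ext e, orderOf_one] at hx
        exact hp.one_lt.ne hx
      obtain ⟨k, b, hb0, hk⟩ := exists_conj_uu (p := p) hx1 (k := 1)
        (by rw [pow_one, ← hx, ← Subgroup.orderOf_coe, pow_orderOf_eq_one])
      rw [← binary_map_conj k] at hb
      have hH' := map_conj_ne_top hH k
      have hmem : π (uu b) ∈ H.map (MulAut.conj k).toMonoidHom := hk ▸ (mem_map_conj H k x).1 x.2
      by_cases hW : (W0 : Subgroup PS) ≤ H.map (MulAut.conj k).toMonoidHom
      · by_cases he : H.map (MulAut.conj k).toMonoidHom = W0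
        · by_cases h2 : (2 : F) = 0
          · have hp2 : p = 2 := (CharP.eq F (CharTwo.of_one_ne_zero_of_two_eq_zero one_ne_zero h2) hchar).symm
            subst hp2
            refine hsyl ⟨m, hqp⟩ (k⁻¹ • V) ?_
            ext g
            rw [Sylow.coe_subgroup_smul, Subgroup.mem_pointwise_smul_iff_inv_smul_mem, hV, ← he,
              mem_map_conj H k g]
            simp
          · exact not_binary_W0 h2 (he ▸ hb)
        · obtain ⟨hB, a, ha, haH⟩ := exists_dd_of_W0_lt hH' hW he
          refine not_binary_of_good (good_dd hB ha haH) (tr_sq_dd ha) (fun h2 => ?_) hb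
          by_cases h1 : tr (dd a) = 1
          · refine Or.inr ⟨(a : F), ?_⟩
            rw [tr, dd_coe] at h1
            simp at h1
            field_simp at h1
            linear_combination h1 + (a : F) * h2
          · exact Or.inl h1
      · by_cases h2 : (2 : F) = 0
        · exact not_binary_unip_two h4 h2 hH' hb0 hmem hW hb
        · exact not_binary_unip h4 h2 hH' hb0 hmem hW hb
    · rcases pprime_cases p hpH with hc | ⟨hp2, t, htH, ht, hC⟩
      · refine not_binary_cyclic p hbot hpH (fun h2 h3 => ?_) hb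
        have hp2 : p = 2 := (CharP.eq F (CharTwo.of_one_ne_zero_of_two_eq_zero one_ne_zero h2) hchar).symm
        subst hp2
        refine exists_root_of_three_dvd (by
          rw [hqp, three_dvd_iff_even]
          by_contra he
          exact hthree ⟨m, Nat.not_even_iff_odd.1 he, hqp⟩ h3)
      · have h2 : (2 : F) ≠ 0 := fun e =>
          hp2 (CharP.eq F (CharTwo.of_one_ne_zero_of_two_eq_zero one_ne_zero e) hchar).symm
        have h7 : 7 ≤ q := by
          obtain ⟨j, hj⟩ : Odd q := hqp ▸ (hp.odd_of_ne_two hp2).pow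
          omega
        exact not_binary_even p h7 h2 hH hpH htH ht hC hb
  · rintro (rfl | ⟨⟨a, ha⟩, P, rfl⟩ | ⟨⟨a, hodd, ha⟩, h3⟩)
    · exact binary_bot
    · haveI := charP_of_card_eq_prime_pow (R := F) ha
      have hp2 : p = 2 := (CharP.eq F (inferInstance : CharP F 2) hchar).symm
      subst hp2
      obtain ⟨k, hk⟩ := MulAction.exists_smul_eq PS V P
      refine binary_of_equiv (MulAut.conj k) (W0 : Subgroup PS) _ (fun g => ?_) (binary_W0 CharTwo.two_eq_zero)
      rw [← hk, ← hV]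
      show g ∈ (V : Subgroup PS) ↔ MulAut.conj k g ∈ ((k • V : Sylow 2 PS) : Subgroup PS)
      rw [Sylow.coe_subgroup_smul, Subgroup.mem_pointwise_smul_iff_inv_smul_mem]
      simp [mul_assoc]
    · haveI := charP_of_card_eq_prime_pow (R := F) ha
      have h2 : (2 : F) = 0 := CharTwo.two_eq_zero
      have hnw := no_root_of_odd hodd ha
      haveI : Fact (Nat.Prime 3) := ⟨Nat.prime_three⟩
      refine binary_card_three h3 fun x y hx hy hxy ⟨g, hg⟩ ⟨g', hg'⟩ ⟨g'', hg''⟩ => ?_
      have key : ∀ z : PS, z ≠ 1 → (∃ g, g⁻¹ * z * g ∈ H) → ∀ s : G, π s = z → tr s = 1 := by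
        rintro z hz ⟨g, hg⟩ s rfl
        have h1 : (π s) ^ 3 = 1 := by
          have := pow_card_eq_one' (x := (⟨_, hg⟩ : H))
          rw [h3] at this
          have h := congrArg Subtype.val this
          simp only [SubgroupClass.coe_pow, Subgroup.coe_one] at h
          rw [show g⁻¹ * π s * g = g⁻¹ * π s * g⁻¹⁻¹ by rw [inv_inv], conj_pow, conj_eq_one_iff] at h
          exact h
        have hs : ¬ Scal s := fun h => hz (π_eq_one.2 h)
        rw [← map_pow, ← map_one (π (F := F))] at h1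
        have h1' := pi_eq_two h2 h1
        rw [pow_succ, pow_two] at h1'
        have e := congrArg (fun m : G => (m : M2)) h1'
        simp only [Matrix.SpecialLinearGroup.coe_mul, Matrix.SpecialLinearGroup.coe_one,
          mul_self, sub_mul, smul_mul_assoc, one_mul] at e
        have h' : ∀ i j : Fin 2, (tr s ^ 2 - 1) * (s : M2) i j = (tr s + 1) * (1 : M2) i j := fun i j => by
          have e' := congrFun (congrFun e i) j
          simp only [Matrix.sub_apply, Matrix.smul_apply, smul_eq_mul] at e'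
          linear_combination e'
        have ht : tr s ^ 2 - 1 = 0 := by
          by_contra hne
          have e01 : (s : M2) 0 1 = 0 := (mul_eq_zero.1 ((h' 0 1).trans (by simp))).resolve_left hne
          have e10 : (s : M2) 1 0 = 0 := (mul_eq_zero.1 ((h' 1 0).trans (by simp))).resolve_left hne
          exact hs ⟨e01, e10, mul_left_cancel₀ hne ((h' 0 0).trans (by simpa using (h' 1 1).symm))⟩
        have : (tr s + 1) ^ 2 = 0 := by linear_combination ht + (tr s + 1) * h2
        linear_combination (pow_eq_zero_iff two_ne_zero).1 this - h2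
      obtain ⟨s, rfl⟩ := π_surjective x
      obtain ⟨r, rfl⟩ := π_surjective y
      rw [eq_of_tr_one h2 hnw (key _ hx ⟨g, hg⟩ s rfl) (key _ hy ⟨g', hg'⟩ r rfl)
        (key _ hxy ⟨g'', hg''⟩ (s * r) (map_mul π s r))]

end Cfsg.Agent.SL2.Binary
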