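import Cfsg.Agent.Lib.Suzuki.Binary
import Cfsg.Agent.Lib.SL2.Dickson
import Cfsg.Agent.Lib.SL2.DicksonMinimal

/-!
# Criteria against binary actions of `PSL(2, q)`
-/

set_option autoImplicit false
set_option linter.unusedSectionVars false

namespace Cfsg.Agent.SL2.Binary

open Matrix Cfsg.Agent.Suzuki

section Abstract

variable {P : Type*} [Group P]

theorem capConj_le_of_mem {H : Subgroup P} {a : P} (ha : a ∈ H) : capConj H a ≤ H := fun y hy => by
  simpa using hy 1 (by simpa using ha)

theorem mem_capConj_conj {H : Subgroup P} {a k y : P} (hy : k⁻¹ * y * k ∈ capConj H a) :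
    y ∈ capConj H (k * a * k⁻¹) := fun g hg => by
  have := hy (k⁻¹ * g) (by simpa [mul_assoc] using hg)
  simpa [mul_assoc] using this

theorem mem_capConj_conj_iff {H : Subgroup P} {a k y : P} :
    y ∈ capConj H (k * a * k⁻¹) ↔ k⁻¹ * y * k ∈ capConj H a := by
  refine ⟨fun h => ?_, mem_capConj_conj⟩
  have := mem_capConj_conj (H := H) (a := k * a * k⁻¹) (k := k⁻¹) (y := k⁻¹ * y * k)
    (by simpa [mul_assoc] using h)
  simpa [mul_assoc] using this

/-- An element commuting with `a` normalises the intersection at `a`. -/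
theorem conj_mem_capConj {H : Subgroup P} {a k y : P} (hk : k * a = a * k) (hy : y ∈ capConj H a) :
    k * y * k⁻¹ ∈ capConj H a := by
  have h : k * a * k⁻¹ = a := by rw [hk, mul_inv_cancel_right]
  rw [← h]
  exact mem_capConj_conj (by simpa [mul_assoc] using hy)

theorem capConj_inv (H : Subgroup P) (a : P) : capConj H a⁻¹ = capConj H a := by
  ext y
  have h : ∀ g : P, g⁻¹ * a⁻¹ * g ∈ H ↔ g⁻¹ * a * g ∈ H := fun g => by
    rw [← inv_mem_iff (x := g⁻¹ * a⁻¹ * g)]
    simp [mul_assoc]
  exact ⟨fun hy g hg => hy g ((h g).2 hg), fun hy g hg => hy g ((h g).1 hg)⟩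

theorem capConj_mono {H : Subgroup P} {a z : P} (hz : z ∈ capConj H a) : capConj H z ≤ capConj H a :=
  fun _ hy g hg => hy g (hz g hg)

theorem card_capConj_conj [Finite P] (H : Subgroup P) (a k : P) :
    Nat.card (capConj H (k * a * k⁻¹)) = Nat.card (capConj H a) :=
  Nat.card_congr ((MulAut.conj k⁻¹).toEquiv.subtypeEquiv fun y => by
    rw [mem_capConj_conj_iff]; simp)

/-- Two commuting involutions, each generating its intersection, destroy binarity. -/
theorem not_binary_inv [Finite P] {H : Subgroup P}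
    (hconj : ∀ a b : P, orderOf a = 2 → orderOf b = 2 → ∃ k, k * a * k⁻¹ = b)
    {t b : P} (ht : orderOf t = 2) (hb : orderOf b = 2) (htb : t * b = b * t) (hne : t ≠ b) (htH : t ∈ H)
    (hbK : b ∉ capConj H t)
    (hodd : ∀ g ∈ capConj H t, g ≠ 1 → (∀ n : ℕ, orderOf (g ^ n) ≠ 2) → ∀ k : P,
      (∀ y ∈ capConj H (k * t * k⁻¹), g * y * g⁻¹ ∈ capConj H (k * t * k⁻¹)) →
        g ∈ capConj H (k * t * k⁻¹)) :
    ¬ BinaryAct H := by
  have hK : ∀ z a : P, orderOf z = 2 → orderOf a = 2 → z ∈ capConj H a → capConj H z = capConj H a := by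
    intro z a hz ha hmem
    obtain ⟨k, hk⟩ := hconj a z ha hz
    refine Subgroup.eq_of_le_of_card_ge (capConj_mono hmem) ?_
    rw [← hk, card_capConj_conj]
  have htt : t * t = 1 := by rw [← pow_two, ← ht, pow_orderOf_eq_one]
  have hbb : b * b = 1 := by rw [← pow_two, ← hb, pow_orderOf_eq_one]
  have hc : orderOf (b * t) = 2 := by
    refine orderOf_eq_prime_iff.2 ⟨?_, ?_⟩
    · rw [pow_two, mul_assoc, ← mul_assoc t, htb, mul_assoc b t, htt, mul_one, hbb]
    · intro h
      exact hne (by rw [← inv_eq_of_mul_eq_one_right hbb, eq_comm]; exact inv_eq_of_mul_eq_one_right h)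
  obtain ⟨k₁, hk₁⟩ := hconj t b ht hb
  have ha : ∃ g, g⁻¹ * t * g ∈ H := ⟨1, by simpa using htH⟩
  have hb' : ∃ g, g⁻¹ * b * g ∈ H := ⟨k₁, by rw [← hk₁]; simpa [mul_assoc] using htH⟩
  have ht1 : t ∉ capConj H (b * t) := fun h => hbK (by
    have e := hK t (b * t) ht hc h
    have : b * t ∈ capConj H t := e ▸ self_mem_capConj H _
    simpa [mul_assoc, htt] using mul_mem this (self_mem_capConj H t))
  refine not_binary (a := t) (b := b) (c := b * t) (by rw [← mul_assoc, hbb, one_mul]) ha hb'
    fun g hga hgb hgc => ?_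
  by_cases hg1 : g = 1
  · subst hg1
    exact ht1 (by simpa using hgc)
  by_cases hpow : ∃ n : ℕ, orderOf (g ^ n) = 2
  · obtain ⟨n, hn⟩ := hpow
    refine hbK ?_
    rw [← hK _ _ hn ht (pow_mem hga n), hK _ _ hn hb (pow_mem hgb n)]
    exact self_mem_capConj H b
  push Not at hpow
  obtain ⟨k, hk⟩ := hconj t (b * t) ht hc
  have hgn : ∀ y ∈ capConj H (k * t * k⁻¹), g * y * g⁻¹ ∈ capConj H (k * t * k⁻¹) := by
    rw [hk]
    intro y hy
    have hcomm : t * (b * t) = b * t * t := by rw [← mul_assoc, htb]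
    have h1 := mul_mem (mul_mem (inv_mem hgc) hy) hgc
    have h2 := conj_mem_capConj hcomm h1
    simpa [mul_assoc] using h2
  have hgK := hodd g hga hg1 hpow k hgn
  rw [hk] at hgK
  exact ht1 (by simpa using mul_mem hgK hgc)

end Abstract

variable {F : Type*} [Field F]

local notation "G" => Matrix.SpecialLinearGroup (Fin 2) F
local notation "M2" => Matrix (Fin 2) (Fin 2) F
local notation "PS" => Matrix.ProjectiveSpecialLinearGroup (Fin 2) F

theorem mul_entry (g h : G) (i j : Fin 2) :
    ((g * h : G) : M2) i j = (g : M2) i 0 * (h : M2) 0 j + (g : M2) i 1 * (h : M2) 1 j := by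
  rw [Matrix.SpecialLinearGroup.coe_mul, Matrix.mul_apply, Fin.sum_univ_two]

theorem torus_congr {g g' : G} (h : cent g = cent g') : torus g = torus g' := by rw [torus, torus, h]

theorem cent_neg (g : G) : cent (-g) = cent g := by ext x; simp [mem_cent]

theorem cent_inv (g : G) : cent g⁻¹ = cent g := by
  ext x
  rw [mem_cent, mem_cent]
  exact (Commute.inv_left_iff : Commute g⁻¹ x ↔ Commute g x)

/-- An element with a conjugate in `H` whose intersection lies in its torus. -/
def Good (H : Subgroup PS) (s : G) : Prop :=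
  (∃ g : PS, g⁻¹ * π s * g ∈ H) ∧ capConj H (π s) ≤ torus s

theorem Good.conj {H : Subgroup PS} {s : G} (h : Good H s) (r : G) : Good H (r * s * r⁻¹) := by
  obtain ⟨⟨g, hg⟩, hle⟩ := h
  refine ⟨⟨π r * g, ?_⟩, fun y hy => ?_⟩
  · rw [π_conj]; simpa [mul_assoc] using hg
  · rw [π_conj] at hy
    exact (torus_conj s r y).2 (hle (mem_capConj_conj_iff.1 hy))

theorem Good.neg {H : Subgroup PS} {s : G} (h : Good H s) : Good H (-s) := by
  rw [Good, π_neg, torus_congr (cent_neg s)]
  exact h

theorem Good.inv {H : Subgroup PS} {s : G} (h : Good H s) : Good H s⁻¹ := by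
  obtain ⟨⟨g, hg⟩, hle⟩ := h
  refine ⟨⟨g, ?_⟩, ?_⟩
  · rw [map_inv]; simpa [mul_assoc] using inv_mem hg
  · rw [map_inv, capConj_inv, torus_congr (cent_inv s)]
    exact hle

/-- Two non-commuting good elements with good product destroy binarity. -/
theorem not_binary_triple [Finite PS] {H : Subgroup PS} {u v : G} (huv : u * v ≠ v * u)
    (hu : Good H u) (hv : Good H v) (hw : Good H (u * v)) : ¬ BinaryAct H := by
  have hus : ¬ Scal u := fun h => huv (by rcases (scal_iff u).1 h with rfl | rfl <;> simp)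
  have hvs : ¬ Scal v := fun h => huv (by rcases (scal_iff v).1 h with rfl | rfl <;> simp)
  have hws : ¬ Scal (u * v) := fun h => huv (by
    rcases (scal_iff _).1 h with e | e <;> rw [e]
    · rw [eq_inv_of_mul_eq_one_right e]; simp
    · rw [show v = u⁻¹ * -1 by rw [← e, inv_mul_cancel_left]]; simp)
  refine not_binary (a := π (u * v)) (b := π u) (c := π v) (map_mul π u v) hw.1 hu.1
    fun g hga hgb hgc => ?_
  by_cases hg : g = 1
  · subst hg
    have h : π (u * v) ∈ torus v := hv.2 (by simpa using hgc)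
    rw [pi_mem_torus, mem_cent] at h
    exact huv (mul_right_cancel (b := v) (by rw [mul_assoc v u v, h]))
  · have h := torus_eq_of_mem hws hus hg (hw.2 hga) (hu.2 hgb)
    have hmem : π (u * v) ∈ torus u := h ▸ pi_mem_torus.2 (self_mem_cent _)
    rw [pi_mem_torus, mem_cent] at hmem
    exact huv (mul_left_cancel (a := u) (by rw [hmem, mul_assoc]))

variable [Fintype F]

/-- The trace of a semisimple good element determines goodness. -/
theorem Good.of_tr {H : Subgroup PS} {s r : G} (h : Good H s) (ht : tr s ^ 2 ≠ 4)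
    (hr : tr r = tr s ∨ tr r = -tr s) : Good H r := by
  rcases hr with e | e
  · obtain ⟨P, hP⟩ := isConj_of_tr e.symm ht
    exact hP ▸ h.conj P
  · obtain ⟨P, hP⟩ := isConj_of_tr (g := -s) (g' := r) (by rw [tr_neg, e]) (by rwa [tr_neg, neg_sq])
    exact hP ▸ h.neg.conj P

/-- Semisimple triples, odd characteristic. -/
theorem exists_triple_odd (h2 : (2 : F) ≠ 0) {t : F} (ht : t ^ 2 ≠ 4) :
    ∃ u v : G, u * v ≠ v * u ∧ tr u = t ∧ tr v = t ∧ (tr (u * v) = t ∨ tr (u * v) = -t) := by
  have h4 : t ^ 2 - 4 ≠ 0 := sub_ne_zero.2 ht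
  obtain ⟨z, hz, hz2, hz1⟩ : ∃ z : F, (z = t ∨ z = -t) ∧ z ≠ t ^ 2 - 2 ∧ z ≠ 2 := by
    have ht1 : t ≠ 2 := fun h => ht (by rw [h]; norm_num)
    have ht2 : t ≠ -2 := fun h => ht (by rw [h]; norm_num)
    by_cases h : t = t ^ 2 - 2
    · refine ⟨-t, Or.inr rfl, fun e => ?_, fun e => ht2 (by linear_combination -e)⟩
      have h0 : (2 : F) * t = 0 := by linear_combination h - e
      have : t = 0 := (mul_eq_zero.1 h0).resolve_left h2
      rw [this] at h
      exact h2 (by linear_combination h)
    · exact ⟨t, Or.inl rfl, h, ht1⟩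
  obtain ⟨s, d, hsd⟩ := FiniteField.exists_root_sum_quadratic
    (f := Polynomial.C (1 : F) * Polynomial.X ^ 2 + Polynomial.C 0 * Polynomial.X + Polynomial.C 0)
    (g := Polynomial.C (-(t ^ 2 - 4)) * Polynomial.X ^ 2 + Polynomial.C (-(4 * t - 2 * t * z)) * Polynomial.X +
      Polynomial.C (-(z ^ 2 - 4)))
    (Polynomial.degree_quadratic one_ne_zero) (Polynomial.degree_quadratic (neg_ne_zero.2 h4))
    (FiniteField.odd_card_of_char_ne_two fun h => h2 (by
      have : CharP F 2 := h ▸ ringChar.charP F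
      exact CharTwo.two_eq_zero))
  simp only [Polynomial.eval_add, Polynomial.eval_mul, Polynomial.eval_pow, Polynomial.eval_C,
    Polynomial.eval_X] at hsd
  set b := (s - (t * d - z)) / 2 with hb
  have hb2 : 2 * b = s - (t * d - z) := by rw [hb]; field_simp
  have hβ : b ^ 2 + (t * d - z) * b + (d ^ 2 - t * d + 1) = 0 := by
    refine (mul_eq_zero.1 (show (4 : F) * (b ^ 2 + (t * d - z) * b + (d ^ 2 - t * d + 1)) = 0 by
      linear_combination hsd + (2 * b + s + (t * d - z)) * hb2)).resolve_left ?_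
    rw [show (4 : F) = 2 * 2 by norm_num]
    exact mul_ne_zero h2 h2
  let v : G := ⟨!![t - d, b; b + t * d - z, d], by
    rw [Matrix.det_fin_two]; simp; linear_combination -hβ⟩
  refine ⟨comp t, v, fun e => ?_, tr_comp t, by simp [v, tr], ?_⟩
  · have e00 := congrArg (fun g : G => (g : M2) 0 0) e
    have e01 := congrArg (fun g : G => (g : M2) 0 1) e
    simp only [mul_entry, tr] at e00 e01; simp [v, comp] at e00 e01
    -- v = a + b * comp t
    have hγ : b + t * d - z = -b := by linear_combination -e00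
    have hd : d = t - d - b * t := by linear_combination -e01
    have h1 : (t ^ 2 - 4) * (b ^ 2 - 1) = 0 := by
      linear_combination (4 : F) * hβ - (4 * b) * hγ - (2 * d - t - b * t) * hd
    rcases sq_eq_one_iff.1 (sub_eq_zero.1 ((mul_eq_zero.1 h1).resolve_left h4)) with e | e
    · rw [e] at hγ hd
      have hd0 : d = 0 := (mul_eq_zero.1 (show (2 : F) * d = 0 by linear_combination hd)).resolve_left h2
      rw [hd0] at hγ
      exact hz1 (by linear_combination -hγ)
    · rw [e] at hγ hd
      have hdt : d = t := mul_left_cancel₀ h2 (by linear_combination hd)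
      rw [hdt] at hγ
      exact hz2 (by linear_combination -hγ)
  · have : tr (comp t * v) = z := by simp only [mul_entry, tr]; simp [v, comp]
    rcases hz with e | e
    · exact Or.inl (this.trans e)
    · exact Or.inr (this.trans e)

/-- Semisimple triples, characteristic two. -/
theorem exists_triple_two (h2 : (2 : F) = 0) {t : F} (ht0 : t ≠ 0) (h : t ≠ 1 ∨ ∃ w : F, w ^ 2 + w + 1 = 0) :
    ∃ u v : G, u * v ≠ v * u ∧ tr u = t ∧ tr v = t ∧ tr (u * v) = t := by
  haveI : CharP F 2 := CharTwo.of_one_ne_zero_of_two_eq_zero one_ne_zero h2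
  by_cases ht : t = 1
  · subst ht
    obtain ⟨w, hw⟩ := h.resolve_left (not_not.2 rfl)
    let u : G := ⟨!![w, 0; 0, w ^ 2], by rw [Matrix.det_fin_two]; simp; linear_combination (w - 1) * hw⟩
    let v : G := ⟨!![w, 1; 0, w ^ 2], by rw [Matrix.det_fin_two]; simp; linear_combination (w - 1) * hw⟩
    refine ⟨u, v, fun e => ?_, ?_, ?_, ?_⟩
    · have e01 := congrArg (fun g : G => (g : M2) 0 1) e
      simp only [mul_entry, tr] at e01; simp [u, v] at e01
      exact one_ne_zero (show (1 : F) = 0 by linear_combination hw + e01 - w * h2)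
    · simp [u, tr]; linear_combination hw - h2
    · simp [v, tr]; linear_combination hw - h2
    · simp only [mul_entry, tr]; simp [u, v]
      linear_combination (w ^ 2 - w + 1) * hw - h2
  · obtain ⟨r, hr⟩ := FiniteField.isSquare_of_char_two (ringChar.eq F 2) t
    have hr' : r ^ 2 = t := by rw [hr]; ring
    let v : G := ⟨!![t + 1, r; r, 1], by rw [Matrix.det_fin_two]; simp; linear_combination -hr'⟩
    refine ⟨comp t, v, fun e => ?_, tr_comp t, ?_, ?_⟩
    · have e01 := congrArg (fun g : G => (g : M2) 0 1) e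
      simp only [mul_entry, tr] at e01; simp [v, comp] at e01
      have h0 : t * (1 - r) = 0 := by linear_combination e01
      have : r = 1 := (sub_eq_zero.1 ((mul_eq_zero.1 h0).resolve_left ht0)).symm
      exact ht (by rw [← hr', this, one_pow])
    · simp [v, tr]; linear_combination h2
    · simp only [mul_entry, tr]; simp [v, comp]

/-- One good semisimple element suffices, except for trace one over fields of odd degree over `𝔽₂`. -/
theorem not_binary_of_good {H : Subgroup PS} {s : G} (hs : Good H s) (ht : tr s ^ 2 ≠ 4)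
    (hex : (2 : F) = 0 → tr s ≠ 1 ∨ ∃ w : F, w ^ 2 + w + 1 = 0) : ¬ BinaryAct H := by
  haveI : Finite PS := Finite.of_surjective _ π_surjective
  by_cases h2 : (2 : F) = 0
  · obtain ⟨u, v, huv, hu, hv, hw⟩ := exists_triple_two (t := tr s) h2 (fun e => ht (by rw [e, show (4 : F) = 2 * 2 by norm_num, h2]; ring)) (hex h2)
    exact not_binary_triple huv (hs.of_tr ht (Or.inl hu)) (hs.of_tr ht (Or.inl hv)) (hs.of_tr ht (Or.inl hw))
  · obtain ⟨u, v, huv, hu, hv, hw⟩ := exists_triple_odd h2 ht
    exact not_binary_triple huv (hs.of_tr ht (Or.inl hu)) (hs.of_tr ht (Or.inl hv)) (hs.of_tr ht hw)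

/-- A lower unitriangular matrix. -/
def low (x : F) : G := ⟨!![1, 0; x, 1], by simp [Matrix.det_fin_two]⟩

theorem low_coe (x : F) : ((low x : G) : M2) = !![1, 0; x, 1] := rfl

/-- The Weyl element. -/
def wey : G := ⟨!![0, -1; 1, 0], by simp [Matrix.det_fin_two]⟩

theorem wey_coe : ((wey : G) : M2) = !![0, -1; 1, 0] := rfl

theorem wey_uu (x : F) : wey * uu x * wey⁻¹ = low (-x) := by
  rw [mul_inv_eq_iff_eq_mul]
  apply ext4 <;> simp [mul_entry, wey_coe, low_coe, uu_coe]

/-- A good unipotent element suffices in odd characteristic. -/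
theorem not_binary_of_good_uu (h2 : (2 : F) ≠ 0) {H : Subgroup PS} {b : F} (hb : b ≠ 0)
    (hs : Good H (uu b)) : ¬ BinaryAct H := by
  haveI : Finite PS := Finite.of_surjective _ π_surjective
  let a : Fˣ := Units.mk0 (2 / b) (div_ne_zero h2 hb)
  have hx : Good H (uu (4 / b)) := by
    have := hs.conj (dd a)
    rwa [dd_conj_uu, show (a : F) ^ 2 * b = 4 / b by simp [a]; field_simp; ring] at this
  have hv : Good H (low (-(4 / b))) := wey_uu (4 / b) ▸ hx.conj wey
  have hw : Good H (uu b * low (-(4 / b))) := by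
    have := (hs.inv.conj (low (2 / b))).neg
    have e : low (2 / b) * (uu b)⁻¹ * (low (2 / b))⁻¹ = -(uu b * low (-(4 / b))) := by
      rw [show (uu b : G)⁻¹ = uu (-b) from inv_eq_of_mul_eq_one_right (by rw [uu_mul, add_neg_cancel, uu_zero]),
        mul_inv_eq_iff_eq_mul]
      apply ext4 <;> simp [mul_entry, low_coe, uu_coe, Matrix.SpecialLinearGroup.coe_neg] <;> field_simp <;> ring
    rwa [e, neg_neg] at this
  refine not_binary_triple (fun e => ?_) hs hv hw
  have e00 := congrArg (fun g : G => (g : M2) 0 0) e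
  simp [mul_entry, low_coe, uu_coe] at e00
  have h4 : (4 : F) = 0 := by tauto
  exact h2 (mul_self_eq_zero.1 (by linear_combination h4))

end Cfsg.Agent.SL2.Binary
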