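import Cfsg.Agent.Lib.SL2.Binary.Triple
import Cfsg.Agent.Lib.SL2.DicksonBorelMax

/-!
# Stabilisers containing unipotent elements
-/

set_option autoImplicit false
set_option linter.unusedSectionVars false

namespace Cfsg.Agent.SL2.Binary

open Matrix Cfsg.Agent.Suzuki

variable {F : Type*} [Field F] [Fintype F]

local notation "G" => Matrix.SpecialLinearGroup (Fin 2) F
local notation "M2" => Matrix (Fin 2) (Fin 2) F
local notation "PS" => Matrix.ProjectiveSpecialLinearGroup (Fin 2) F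
local notation "q" => Fintype.card F

theorem bruhat (s : G) (h : (s : M2) 1 0 ≠ 0) :
    s = uu (((s : M2) 0 0 - 1) / (s : M2) 1 0) * low ((s : M2) 1 0) *
      uu (((s : M2) 1 1 - 1) / (s : M2) 1 0) := by
  have hd := det_eq s
  apply ext4 <;> simp [mul_entry, low_coe, uu_coe] <;> field_simp <;> first | linear_combination hd | linear_combination -hd | ring

theorem low_add (x y : F) : low x * low y = low (x + y) := by
  apply ext4 <;> simp [mul_entry, low_coe]

theorem dd_conj_low (a : Fˣ) (x : F) : dd a * low x * (dd a)⁻¹ = low (x / (a : F) ^ 2) := by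
  rw [mul_inv_eq_iff_eq_mul]
  apply ext4 <;> simp [mul_entry, low_coe, dd_coe] <;> field_simp

/-- A subgroup with all upper unitriangular elements is upper triangular or everything. -/
theorem top_of_W0_le {K : Subgroup PS} (hK : (W0 : Subgroup PS) ≤ K) {x : PS} (hx : x ∈ K)
    (hxB : x ∉ (B0 : Subgroup PS)) : K = ⊤ := by
  obtain ⟨s, rfl⟩ := π_surjective x
  have hc : (s : M2) 1 0 ≠ 0 := fun h => hxB (pi_mem_B0.2 h)
  set c := (s : M2) 1 0 with hcdef
  have hu : ∀ z : F, π (uu z : G) ∈ K := fun z => hK ⟨z, rfl⟩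
  have hlc : π (low c : G) ∈ K := by
    have e := congrArg π (bruhat s hc)
    rw [map_mul, map_mul, ← hcdef] at e
    rw [show π (low c : G) = (π (uu (((s : M2) 0 0 - 1) / c)))⁻¹ * π s *
      (π (uu (((s : M2) 1 1 - 1) / c)))⁻¹ by rw [e]; group]
    exact mul_mem (mul_mem (inv_mem (hu _)) hx) (inv_mem (hu _))
  let w : G := ⟨!![0, -1 / c; c, 0], by simp [Matrix.det_fin_two, hc]⟩
  have hw : π w ∈ K := by
    rw [show w = uu (-1 / c) * low c * uu (-1 / c) by
      apply ext4 <;> simp only [mul_entry, low_coe, uu_coe] <;> simp [w] <;> field_simp <;> simp, map_mul, map_mul]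
    exact mul_mem (mul_mem (hu _) hlc) (hu _)
  have hl : ∀ z : F, π (low z : G) ∈ K := by
    intro z
    have e : w * uu (-z / c ^ 2) * w⁻¹ = low z := by
      rw [mul_inv_eq_iff_eq_mul]
      apply ext4 <;> simp only [mul_entry, low_coe, uu_coe] <;> simp [w] <;> field_simp
    rw [← e, π_conj]
    exact mul_mem (mul_mem hw (hu _)) (inv_mem hw)
  refine top_le_iff.1 fun y _ => ?_
  obtain ⟨t, rfl⟩ := π_surjective y
  have key : ∀ t : G, (t : M2) 1 0 ≠ 0 → π t ∈ K := fun t ht => by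
    rw [bruhat t ht, map_mul, map_mul]
    exact mul_mem (mul_mem (hu _) (hl _)) (hu _)
  by_cases ht : (t : M2) 1 0 = 0
  · obtain ⟨-, h0, -⟩ := upper_root ht
    rw [show π t = (π (low 1 : G))⁻¹ * π (low 1 * t) by rw [map_mul, inv_mul_cancel_left]]
    exact mul_mem (inv_mem (hl 1)) (key _ (by simp [mul_entry, low_coe, ht, h0]))
  · exact key t ht

/-- A proper subgroup normalised by the upper unitriangular group, not containing it, lies in it. -/
theorem le_W0_of_normalised (h4 : 4 ≤ q) {K : Subgroup PS} (htop : K ≠ ⊤) {b₀ : F} (hb₀ : b₀ ≠ 0)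
    (hmem : π (uu b₀) ∈ K) (hnorm : ∀ (z : F), ∀ y ∈ K, π (uu z) * y * (π (uu z))⁻¹ ∈ K)
    (hW : ¬ (W0 : Subgroup PS) ≤ K) : K ≤ W0 := by
  haveI : Finite PS := Finite.of_surjective _ π_surjective
  have hKN : (W0 : Subgroup PS) ≤ Subgroup.normalizer (K : Set PS) := by
    rintro _ ⟨z, rfl⟩
    rw [Subgroup.mem_normalizer_iff]
    refine fun y => ⟨hnorm z y, fun hy => ?_⟩
    have h := hnorm (-z) _ hy
    have e : (π (uu (-z) : G)) = (π (uu z))⁻¹ :=
      eq_inv_of_mul_eq_one_left (by rw [← map_mul, uu_mul, neg_add_cancel, uu_zero, map_one])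
    simpa [e, mul_assoc] using h
  have hB : K ≤ B0 := fun y hy => by
    by_contra hyB
    have hN := top_of_W0_le hKN (Subgroup.le_normalizer hy) hyB
    haveI := isSimple_psl (F := F) h4
    rcases (Subgroup.normalizer_eq_top_iff.1 hN).eq_bot_or_eq_top with h | h
    · have h1 : π (uu b₀ : G) = 1 := Subgroup.mem_bot.1 (h ▸ hmem)
      exact hb₀ (pi_uu_inj (h1.trans (by rw [uu_zero, map_one])))
    · exact htop h
  intro y hy
  obtain ⟨s, rfl⟩ := π_surjective y
  have hs := pi_mem_B0.1 (hB hy)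
  obtain ⟨-, h0, h11⟩ := upper_root hs
  by_contra hyW
  have hd2 : ((s : M2) 0 0) ^ 2 ≠ 1 := fun e => hyW (pi_upper_mem_W0 hs e)
  refine hW ?_
  rintro _ ⟨z, rfl⟩
  set z' := z / (1 - ((s : M2) 0 0) ^ 2) with hz'
  have h1 : 1 - ((s : M2) 0 0) ^ 2 ≠ 0 := sub_ne_zero.2 (Ne.symm hd2)
  have h := mul_mem (hnorm z' _ hy) (inv_mem hy)
  rw [← π_conj, ← map_inv, ← map_mul] at h
  convert h using 2
  rw [eq_mul_inv_iff_mul_eq, show (uu z' : G)⁻¹ = uu (-z') from
    inv_eq_of_mul_eq_one_right (by rw [uu_mul, add_neg_cancel, uu_zero])]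
  apply ext4 <;> simp [mul_entry, uu_coe, hs, h11]
  all_goals (rw [hz']; field_simp; ring)

/-- Without a full unipotent group, the intersection at a unipotent element is unipotent. -/
theorem capConj_uu_le (h4 : 4 ≤ q) {H : Subgroup PS} (hH : H ≠ ⊤) {b₀ : F} (hb₀ : b₀ ≠ 0)
    (hmem : π (uu b₀) ∈ H) (hW : ¬ (W0 : Subgroup PS) ≤ H) : capConj H (π (uu b₀)) ≤ W0 := by
  refine le_W0_of_normalised h4 ?_ hb₀ (self_mem_capConj H _) (fun z y hy => conj_mem_capConj ?_ hy) ?_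
  · exact fun h => hH (top_le_iff.1 (h ▸ capConj_le_of_mem hmem))
  · exact W0_comm ⟨z, rfl⟩ ⟨b₀, rfl⟩
  · exact fun h => hW (h.trans (capConj_le_of_mem hmem))

theorem W0_le_torus_uu (b₀ : F) : (W0 : Subgroup PS) ≤ torus (uu b₀) := by
  rintro _ ⟨z, rfl⟩
  exact pi_mem_torus.2 (mem_cent.2 (by rw [uu_mul, uu_mul, add_comm]))

/-- Odd characteristic: a unipotent element and no full unipotent group. -/
theorem not_binary_unip (h4 : 4 ≤ q) (h2 : (2 : F) ≠ 0) {H : Subgroup PS} (hH : H ≠ ⊤) {b₀ : F}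
    (hb₀ : b₀ ≠ 0) (hmem : π (uu b₀) ∈ H) (hW : ¬ (W0 : Subgroup PS) ≤ H) : ¬ BinaryAct H :=
  not_binary_of_good_uu h2 hb₀ ⟨⟨1, by simpa using hmem⟩,
    (capConj_uu_le h4 hH hb₀ hmem hW).trans (W0_le_torus_uu b₀)⟩

/-- Odd characteristic: the unipotent group itself. -/
theorem not_binary_W0 (h2 : (2 : F) ≠ 0) : ¬ BinaryAct (W0 : Subgroup PS) :=
  not_binary_of_good_uu h2 one_ne_zero ⟨⟨1, by rw [inv_one, one_mul, mul_one]; exact ⟨1, rfl⟩⟩,
    (capConj_le_of_mem (show π (uu (1 : F)) ∈ (W0 : Subgroup PS) from ⟨1, rfl⟩)).trans (W0_le_torus_uu 1)⟩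

/-- A split torus element in a subgroup of the Borel subgroup is good. -/
theorem good_dd {H : Subgroup PS} (hB : H ≤ B0) {a : Fˣ} (ha : (a : F) ^ 2 ≠ 1) (hmem : π (dd a) ∈ H) :
    Good H (dd a) := by
  refine ⟨⟨1, by simpa using hmem⟩, fun y hy => ?_⟩
  have h1 : y ∈ (B0 : Subgroup PS) := hB (capConj_le_of_mem hmem hy)
  have e : (π (wey : G))⁻¹ * π (dd a) * π wey = (π (dd a))⁻¹ := by
    rw [← map_inv, ← map_inv, ← map_mul, ← map_mul, dd_inv]
    congr 1
    rw [mul_assoc, inv_mul_eq_iff_eq_mul]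
    apply ext4 <;> simp [mul_entry, wey_coe, dd_coe]
  have h2 := hB (hy (π wey) (e ▸ inv_mem hmem))
  obtain ⟨s, rfl⟩ := π_surjective y
  rw [← map_inv, ← map_mul, ← map_mul, pi_mem_B0] at h2
  simp [mul_entry, coe_inv', wey_coe, tr] at h2
  exact pi_mem_torus.2 ((mem_cent_dd ha).2 ⟨h2, pi_mem_B0.1 h1⟩)

/-- A subgroup properly between the unipotent group and the whole group has a good torus element. -/
theorem exists_dd_of_W0_lt {H : Subgroup PS} (hH : H ≠ ⊤) (hW : (W0 : Subgroup PS) ≤ H)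
    (hne : H ≠ W0) : H ≤ B0 ∧ ∃ a : Fˣ, (a : F) ^ 2 ≠ 1 ∧ π (dd a) ∈ H := by
  have hB : H ≤ B0 := fun x hx => by
    by_contra h
    exact hH (top_of_W0_le hW hx h)
  refine ⟨hB, ?_⟩
  obtain ⟨x, hx, hxW⟩ : ∃ x ∈ H, x ∉ (W0 : Subgroup PS) := by
    by_contra hcon
    push Not at hcon
    exact hne (le_antisymm hcon hW)
  obtain ⟨s, rfl⟩ := π_surjective x
  have hs := pi_mem_B0.1 (hB hx)
  have ht : tr s ^ 2 ≠ 4 := by
    intro ht
    refine hxW (pi_upper_mem_W0 hs ?_)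
    obtain ⟨-, h0, h11⟩ := upper_root hs
    rw [tr, h11] at ht
    have h3 : ((s : M2) 0 0 ^ 2 - 1) ^ 2 = 0 := by
      field_simp at ht
      linear_combination ht
    exact sub_eq_zero.1 ((pow_eq_zero_iff two_ne_zero).1 h3)
  obtain ⟨c, a, ha, he⟩ := exists_diag hs ht
  refine ⟨a, ha, ?_⟩
  rw [← he, π_conj]
  exact mul_mem (mul_mem (hW ⟨c, rfl⟩) hx) (inv_mem (hW ⟨c, rfl⟩))

end Cfsg.Agent.SL2.Binary
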